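import Groth.Agent.P1Complete.FreeLevels
import Groth.Agent.Lef73.Algebraize
import Groth.Agent.AmpleVan.ThickPush
import Groth.Agent.Algz7.Completion
import Groth.Agent.P1Prop.FF
import Groth.Agent.S0004

/-!
# Finite étale covers of the special fibre of a proper scheme over a complete base extend
-/

set_option linter.style.haveILetI false
set_option backward.isDefEq.respectTransparency false
set_option backward.isDefEq.respectTransparency.types false

universe u

open CategoryTheory CategoryTheory.Limits AlgebraicGeometry TopologicalSpace Opposite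

noncomputable section

namespace Groth.Agent.P1Complete

open Groth.Agent

section Levels

variable {A : Type u} [CommRing A] (I : Ideal A) {X : Scheme.{u}} (f : X ⟶ Spec (CommRingCat.of A))

/-- The closed immersion `Spec (A / I^(n+1)) ⟶ Spec A`. -/
def baseι (n : ℕ) : Spec (CommRingCat.of (A ⧸ I ^ (n + 1))) ⟶ Spec (CommRingCat.of A) :=
  Spec.map (CommRingCat.ofHom (Ideal.Quotient.mk (I ^ (n + 1))))

instance (n : ℕ) : IsClosedImmersion (baseι I n) :=
  IsClosedImmersion.spec_of_surjective _ Ideal.Quotient.mk_surjective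

/-- The levels `X ⊗ A / I^(n+1)`. -/
def lev (n : ℕ) : Scheme.{u} := pullback f (baseι I n)

/-- The closed immersion of a level. -/
def levι (n : ℕ) : lev I f n ⟶ X := pullback.fst f (baseι I n)

instance (n : ℕ) : IsClosedImmersion (levι I f n) :=
  MorphismProperty.pullback_fst _ _ inferInstance

theorem levι_sq (n : ℕ) :
    IsPullback (levι I f n) (pullback.snd f (baseι I n)) f
      (Spec.map (CommRingCat.ofHom (Ideal.Quotient.mk (I ^ (n + 1))))) :=
  IsPullback.of_hasPullback f (baseι I n)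

/-- The transition map of the base. -/
def baseT (n : ℕ) : Spec (CommRingCat.of (A ⧸ I ^ (n + 1))) ⟶ Spec (CommRingCat.of (A ⧸ I ^ (n + 1 + 1))) :=
  Spec.map (CommRingCat.ofHom (Ideal.Quotient.factor (Ideal.pow_le_pow_right (Nat.le_succ (n + 1)))))

theorem baseT_comp (n : ℕ) : baseT I n ≫ baseι I (n + 1) = baseι I n := by
  unfold baseT baseι
  rw [← Spec.map_comp, ← CommRingCat.ofHom_comp, Ideal.Quotient.factor_comp_mk]

/-- The transition map of the levels. -/
def levT (n : ℕ) : lev I f n ⟶ lev I f (n + 1) :=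
  pullback.lift (levι I f n) (pullback.snd f (baseι I n) ≫ baseT I n) (by
    rw [Category.assoc, baseT_comp]
    exact pullback.condition)

theorem levT_comp (n : ℕ) : levT I f n ≫ levι I f (n + 1) = levι I f n :=
  pullback.lift_fst _ _ _

theorem range_levι (n : ℕ) :
    Set.range (levι I f n).base = f.base ⁻¹' PrimeSpectrum.zeroLocus (I : Set A) := by
  have h := HensCouple7.range_fst_mk (I ^ (n + 1)) f
  rw [PrimeSpectrum.zeroLocus_pow I (Nat.succ_ne_zero n)] at h
  exact h

instance isClosedImmersion_levT (n : ℕ) : IsClosedImmersion (levT I f n) := by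
  haveI : IsClosedImmersion (levT I f n ≫ levι I f (n + 1)) := by rw [levT_comp]; infer_instance
  exact IsClosedImmersion.of_comp (levT I f n) (levι I f (n + 1))

instance surjective_levT (n : ℕ) : Surjective (levT I f n) := ⟨fun z => by
  have hz : (levι I f (n + 1)).base z ∈ Set.range (levι I f n).base := by
    rw [range_levι, ← range_levι I f (n + 1)]
    exact ⟨z, rfl⟩
  obtain ⟨w, hw⟩ := hz
  refine ⟨w, (levι I f (n + 1)).isClosedEmbedding.injective ?_⟩
  rw [← hw]
  exact congr($(levT_comp I f n).base w)⟩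

end Levels

section Transpose

variable {Z Z' X : Scheme.{u}} {i : Z ⟶ X} {i' : Z' ⟶ X} (t : Z ⟶ Z') (h : t ≫ i' = i)
  {M : Z.Modules} {M' : Z'.Modules} (e : (Scheme.Modules.pullback t).obj M' ⟶ M)

/-- The comparison `i^* i'_* M' ⟶ M` attached to `t^* M' ⟶ M`. -/
def sysσ : (Scheme.Modules.pullback i).obj ((Scheme.Modules.pushforward i').obj M') ⟶ M :=
  (Scheme.Modules.pullbackComp t i' ≪≫ Scheme.Modules.pullbackCongr h).inv.app _ ≫
    (Scheme.Modules.pullback t).map ((Scheme.Modules.pullbackPushforwardAdjunction i').counit.app M') ≫ e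

/-- The map `i'_* M' ⟶ i_* M` attached to `t^* M' ⟶ M`. -/
def sysτ : (Scheme.Modules.pushforward i').obj M' ⟶ (Scheme.Modules.pushforward i).obj M :=
  Lef73.toRed i _ ≫ (Scheme.Modules.pushforward i).map (sysσ t h e)

theorem isIso_sysσ [IsClosedImmersion i'] [IsIso e] (hM' : Coh.IsQCoh M') : IsIso (sysσ t h e) := by
  haveI := AmpleVan.isIso_counit i' hM'
  unfold sysσ
  infer_instance

theorem transpose_step {C D E : Type*} [Category C] [Category D] [Category E] (F : C ⥤ D) (G : D ⥤ E)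
    (H : C ⥤ E) (c : F ⋙ G ≅ H) {x y : C} (q : x ⟶ y) {m : D} (ε : F.obj y ⟶ m) {m' : E} (d : G.obj m ⟶ m') :
    G.map (F.map q ≫ ε) ≫ d = c.hom.app x ≫ H.map q ≫ c.inv.app y ≫ G.map ε ≫ d := by
  rw [c.inv.naturality_assoc, Iso.hom_inv_id_app_assoc, Functor.map_comp, Category.assoc]
  rfl

theorem transpose_sys {F : X.Modules} (q : F ⟶ (Scheme.Modules.pushforward i).obj M)
    (q' : F ⟶ (Scheme.Modules.pushforward i').obj M') (hq : q' ≫ sysτ t h e = q) :
    (Scheme.Modules.pullback t).map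
        (((Scheme.Modules.pullbackPushforwardAdjunction i').homEquiv F M').symm q') ≫ e =
      (Scheme.Modules.pullbackComp t i' ≪≫ Scheme.Modules.pullbackCongr h).hom.app F ≫
        ((Scheme.Modules.pullbackPushforwardAdjunction i).homEquiv F M).symm q := by
  have key : ((Scheme.Modules.pullbackPushforwardAdjunction i).homEquiv F M).symm q =
      (Scheme.Modules.pullback i).map q' ≫ sysσ t h e := by
    rw [Equiv.symm_apply_eq, Adjunction.homEquiv_naturality_left, Adjunction.homEquiv_unit]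
    exact hq.symm
  rw [key, Adjunction.homEquiv_counit]
  exact transpose_step _ _ _ _ _ _ _

end Transpose

variable {A : Type u} [CommRing A] (I : Ideal A) {X : Scheme.{u}} [X.Over (Spec (CommRingCat.of A))]

/-- The unit to a level is the quotient by the power of the ideal. -/
theorem isQuot_toRed (n : ℕ) {M : X.Modules} (hM : Coh.IsQCoh M) :
    Algz7.IsQuot (I ^ (n + 1)) (Lef73.toRed (levι I (X ↘ Spec (CommRingCat.of A)) n) M) :=
  AmpleVan.unit_desc_iso (levι_sq I (X ↘ Spec (CommRingCat.of A)) n) hM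

theorem isQuot_comp_iso {J : Ideal A} {M N P : X.Modules} {g : M ⟶ N} (hg : Algz7.IsQuot J g) (e : N ⟶ P)
    [IsIso e] : Algz7.IsQuot J (g ≫ e) := by
  obtain ⟨h, hi⟩ := hg
  refine ⟨by rw [← Category.assoc, h, zero_comp], ?_⟩
  rw [show cokernel.desc (Formal.smulFamily J M) (g ≫ e) _ = cokernel.desc _ g h ≫ e from
    coequalizer.hom_ext (by simp)]
  infer_instance

theorem isIso_of_isQuot {J : Ideal A} {M N P : X.Modules} {g : M ⟶ N} {g' : M ⟶ P}
    (hg : Algz7.IsQuot J g) (hg' : Algz7.IsQuot J g') (e : N ⟶ P) (he : g ≫ e = g') : IsIso e := by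
  obtain ⟨ψ, hψ⟩ := hg'.desc g hg.choose
  haveI := hg.epi
  haveI := hg'.epi
  refine ⟨ψ, ?_, ?_⟩
  · rw [← cancel_epi g, reassoc_of% he, hψ, Category.comp_id]
  · rw [← cancel_epi g', reassoc_of% hψ, he, Category.comp_id]

/-- The reduction modulo a power is the level. -/
def rho (n : ℕ) {M : X.Modules} (hM : Coh.IsQCoh M) :
    Formal.modPow I (n + 1) M ⟶ Lef73.red (levι I (X ↘ Spec (CommRingCat.of A)) n) M :=
  cokernel.desc _ _ (isQuot_toRed I n hM).choose

instance isIso_rho (n : ℕ) {M : X.Modules} (hM : Coh.IsQCoh M) : IsIso (rho I n hM) :=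
  (isQuot_toRed I n hM).choose_spec

theorem π_rho (n : ℕ) {M : X.Modules} (hM : Coh.IsQCoh M) :
    Formal.modPowπ I (n + 1) M ≫ rho I n hM = Lef73.toRed (levι I (X ↘ Spec (CommRingCat.of A)) n) M :=
  cokernel.π_desc _ _ _

theorem trans_rho (n : ℕ) {M : X.Modules} (hM : Coh.IsQCoh M) :
    Formal.modPowTrans I (n + 1) M ≫ rho I n hM =
      rho I (n + 1) hM ≫ Lef73.redTrans (levT I (X ↘ Spec (CommRingCat.of A)) n) (levT_comp I (X ↘ Spec (CommRingCat.of A)) n) M := by
  haveI := (Algz7.isQuot_modPowπ I (n + 1 + 1) M).epi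
  rw [← cancel_epi (Formal.modPowπ I (n + 1 + 1) M), ← Category.assoc, Formal.modPowπ_trans, π_rho,
    ← Category.assoc, π_rho, Lef73.toRed_redTrans]

variable [IsNoetherianRing A] [IsAdicComplete I A] [IsProper (X ↘ Spec (CommRingCat.of A))]

theorem mapBij_lev : Lef73.MapBij (levT_comp I (X ↘ Spec (CommRingCat.of A))) := by
  intro F G hF hG y hy
  haveI := LocallyOfFiniteType.isLocallyNoetherian (X ↘ Spec (CommRingCat.of A))
  have hFq := QCoh.isQCoh_of_isFinLocFree hF
  have hGq := QCoh.isQCoh_of_isFinLocFree hG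
  have hFc : Coh.IsCoh F := QCoh.isCoh_iff_isFP.2 (QCoh.isFP_of_isFinLocFree hF)
  have hGc : Coh.IsCoh G := QCoh.isCoh_iff_isFP.2 (QCoh.isFP_of_isFinLocFree hG)
  have hd : ∀ n, ∃ ψ : Formal.modPow I (n + 1) F ⟶ Formal.modPow I (n + 1) G,
      Formal.modPowπ I (n + 1) F ≫ ψ = y n ≫ inv (rho I n hGq) := fun n =>
    (Algz7.isQuot_modPowπ I (n + 1) F).desc _ (Algz7.smulFamily_comp_eq_zero
      (Algz7.killedBy_of_isQuot (Algz7.isQuot_modPowπ I (n + 1) G)) _)
  choose ψ hψ using hd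
  let η : Formal.completion I F ⟶ Formal.completion I G := NatTrans.ofOpSequence ψ fun n => by
    rw [Algz7.completion_map_succ, Algz7.completion_map_succ]
    haveI := (Algz7.isQuot_modPowπ I (n + 1 + 1) F).epi
    rw [← cancel_epi (Formal.modPowπ I (n + 1 + 1) F), ← Category.assoc, Formal.modPowπ_trans, hψ,
      reassoc_of% hψ (n + 1), ← cancel_mono (rho I n hGq)]
    simp only [Category.assoc, IsIso.inv_hom_id, Category.comp_id, trans_rho, IsIso.inv_hom_id_assoc]
    exact (hy n).symm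
  obtain ⟨φ, hφ, huniq⟩ := (S0004.result A I X).1 F G hFc hGc η
  have key : ∀ n, η.app (op n) = ψ n := fun n => rfl
  refine ⟨φ, fun n => ?_, fun φ' hφ' => huniq φ' fun n => ?_⟩
  · have h := hφ n
    rw [key, hψ] at h
    rw [← π_rho I n hGq, ← Category.assoc, ← h, Category.assoc, IsIso.inv_hom_id, Category.comp_id]
  · rw [key, hψ, IsIso.comp_inv_eq, Category.assoc, π_rho]
    exact (hφ' n).symm

omit [IsNoetherianRing A] [IsAdicComplete I A] [IsProper (X ↘ Spec (CommRingCat.of A))] in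
theorem ker_levι (U : X.affineOpens) (n : ℕ) :
    (levι I (X ↘ Spec (CommRingCat.of A)) n).ker.ideal U = (levι I (X ↘ Spec (CommRingCat.of A)) 0).ker.ideal U ^ (n + 1) := by
  rw [AmpleVan.ker_ideal_of_isPullback (levι_sq I (X ↘ Spec (CommRingCat.of A)) n),
    AmpleVan.ker_ideal_of_isPullback (levι_sq I (X ↘ Spec (CommRingCat.of A)) 0), Ideal.map_pow, Ideal.map_pow, ← pow_mul]
  simp

theorem isFinLocFree_of_levels {F : X.Modules} (hF : Coh.IsCoh F)
    (h : ∀ n, FlatMod.IsFinLocFree ((Scheme.Modules.pullback (levι I (X ↘ Spec (CommRingCat.of A)) n)).obj F)) :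
    FlatMod.IsFinLocFree F := by
  haveI := LocallyOfFiniteType.isLocallyNoetherian (X ↘ Spec (CommRingCat.of A))
  intro x
  let S : Set X := {x | ∃ (O : X.Opens) (r : ℕ), x ∈ O ∧
    Nonempty (F.restrict O.ι ≅ FlatMod.freeMod (O : Scheme.{u}) r)}
  by_contra hx
  have hS : IsClosed Sᶜ := by
    rw [isClosed_compl_iff, isOpen_iff_forall_mem_open]
    rintro y ⟨O, r, hy, he⟩
    exact ⟨O, fun z hz => ⟨O, r, hz, he⟩, O.2, hy⟩
  have hc := (X ↘ Spec (CommRingCat.of A)).isClosedMap _ hS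
  obtain ⟨J, hJ⟩ := (PrimeSpectrum.isClosed_iff_zeroLocus_ideal _).1 hc
  have hfx : (X ↘ Spec (CommRingCat.of A)) x ∈ (PrimeSpectrum.zeroLocus (J : Set A) : Set (PrimeSpectrum A)) :=
    hJ ▸ ⟨x, fun ⟨O, r, hxO, he⟩ => hx ⟨O, r, hxO, he⟩, rfl⟩
  obtain ⟨m, hm, hJm⟩ := Ideal.exists_le_maximal J fun e => by
    rw [e] at hfx
    simp at hfx
  obtain ⟨y, hyS, hy⟩ : (⟨m, hm.isPrime⟩ : PrimeSpectrum A) ∈ (X ↘ Spec (CommRingCat.of A)) '' Sᶜ := by
    rw [hJ]; exact hJm
  refine hyS (exists_free_of_tower hF (levι I (X ↘ Spec (CommRingCat.of A))) (ker_levι I) h ?_)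
  rw [range_levι]
  show ((X ↘ Spec (CommRingCat.of A)) y : PrimeSpectrum A) ∈ PrimeSpectrum.zeroLocus (I : Set A)
  rw [hy]
  exact (IsAdicComplete.le_jacobson_bot I).trans (sInf_le ⟨bot_le, hm⟩)

omit [IsNoetherianRing A] [IsAdicComplete I A] [IsProper (X ↘ Spec (CommRingCat.of A))] in
theorem isIso_transpose (n : ℕ) {F : X.Modules} (hF : Coh.IsQCoh F) {M : (lev I (X ↘ Spec (CommRingCat.of A)) n).Modules}
    (q : F ⟶ (Scheme.Modules.pushforward (levι I (X ↘ Spec (CommRingCat.of A)) n)).obj M)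
    (hq : Algz7.IsQuot (I ^ (n + 1)) q) :
    IsIso (((Scheme.Modules.pullbackPushforwardAdjunction (levι I (X ↘ Spec (CommRingCat.of A)) n)).homEquiv F M).symm q) := by
  set ψ := ((Scheme.Modules.pullbackPushforwardAdjunction (levι I (X ↘ Spec (CommRingCat.of A)) n)).homEquiv F M).symm q
  have h : Lef73.toRed _ F ≫ (Scheme.Modules.pushforward (levι I (X ↘ Spec (CommRingCat.of A)) n)).map ψ = q :=
    ((Scheme.Modules.pullbackPushforwardAdjunction _).homEquiv_unit F M ψ).symm.trans (Equiv.apply_symm_apply _ _)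
  haveI := isIso_of_isQuot (isQuot_toRed I n hF) hq _ h
  exact AmpleVan.isIso_of_push (levι I (X ↘ Spec (CommRingCat.of A)) n) _

omit [IsNoetherianRing A] [IsAdicComplete I A] [IsProper (X ↘ Spec (CommRingCat.of A))] in
theorem killedBy_push (n : ℕ) {M : (lev I (X ↘ Spec (CommRingCat.of A)) n).Modules} (hM : Coh.IsQCoh M)
    (hP : Coh.IsQCoh ((Scheme.Modules.pushforward (levι I (X ↘ Spec (CommRingCat.of A)) n)).obj M)) :
    Formal.KilledBy (I ^ (n + 1)) ((Scheme.Modules.pushforward (levι I (X ↘ Spec (CommRingCat.of A)) n)).obj M) := by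
  haveI := AmpleVan.isIso_unit_push (levι I (X ↘ Spec (CommRingCat.of A)) n) hM
  exact Algz7.killedBy_of_isQuot (isQuot_comp_iso (isQuot_toRed I n hP) (inv (Lef73.toRed _ _)))

omit [IsNoetherianRing A] [IsAdicComplete I A] [IsProper (X ↘ Spec (CommRingCat.of A))] in
theorem isQuot_sysτ (n : ℕ) {M : (lev I (X ↘ Spec (CommRingCat.of A)) n).Modules}
    {M' : (lev I (X ↘ Spec (CommRingCat.of A)) (n + 1)).Modules} (hM' : Coh.IsQCoh M')
    (hP : Coh.IsQCoh ((Scheme.Modules.pushforward (levι I (X ↘ Spec (CommRingCat.of A)) (n + 1))).obj M'))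
    (e : (Scheme.Modules.pullback (levT I (X ↘ Spec (CommRingCat.of A)) n)).obj M' ⟶ M) [IsIso e] :
    Algz7.IsQuot (I ^ (n + 1))
      (sysτ (levT I (X ↘ Spec (CommRingCat.of A)) n) (levT_comp I (X ↘ Spec (CommRingCat.of A)) n) e) := by
  haveI := isIso_sysσ (levT I (X ↘ Spec (CommRingCat.of A)) n) (levT_comp I (X ↘ Spec (CommRingCat.of A)) n) e hM'
  exact isQuot_comp_iso (isQuot_toRed I n hP) _

omit [IsNoetherianRing A] [IsAdicComplete I A] [IsProper (X ↘ Spec (CommRingCat.of A))] in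
theorem exists_proj (G : ℕᵒᵖ ⥤ X.Modules) {F : X.Modules} (Φ : Formal.completion I F ≅ G) :
    ∃ q : ∀ n, F ⟶ G.obj (op n), (∀ n, Algz7.IsQuot (I ^ (n + 1)) (q n)) ∧
      ∀ n, q (n + 1) ≫ G.map (homOfLE (Nat.le_succ n)).op = q n := by
  refine ⟨fun n => Formal.modPowπ I (n + 1) F ≫ Φ.hom.app (op n),
    fun n => isQuot_comp_iso (Algz7.isQuot_modPowπ I (n + 1) F) _, fun n => ?_⟩
  show (_ ≫ _) ≫ _ = _ ≫ _
  rw [Category.assoc]
  erw [← Φ.hom.naturality (homOfLE (Nat.le_succ n)).op]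
  rw [Algz7.completion_map_succ, ← Category.assoc, Formal.modPowπ_trans]

/-- The inverse system of pushforwards of a compatible system on the levels. -/
def sysFunctor (M : ∀ n, (lev I (X ↘ Spec (CommRingCat.of A)) n).Modules)
    (e : ∀ n, (Scheme.Modules.pullback (levT I (X ↘ Spec (CommRingCat.of A)) n)).obj (M (n + 1)) ≅ M n) :
    ℕᵒᵖ ⥤ X.Modules :=
  Functor.ofOpSequence (X := fun n => (Scheme.Modules.pushforward (levι I (X ↘ Spec (CommRingCat.of A)) n)).obj (M n))
    fun n => sysτ (levT I (X ↘ Spec (CommRingCat.of A)) n) (levT_comp I (X ↘ Spec (CommRingCat.of A)) n) (e n).hom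

omit [IsNoetherianRing A] [IsAdicComplete I A] [IsProper (X ↘ Spec (CommRingCat.of A))] in
theorem sysFunctor_map (M : ∀ n, (lev I (X ↘ Spec (CommRingCat.of A)) n).Modules)
    (e : ∀ n, (Scheme.Modules.pullback (levT I (X ↘ Spec (CommRingCat.of A)) n)).obj (M (n + 1)) ≅ M n) (n : ℕ) :
    (sysFunctor I M e).map (homOfLE (Nat.le_succ n)).op =
      sysτ (levT I (X ↘ Spec (CommRingCat.of A)) n) (levT_comp I (X ↘ Spec (CommRingCat.of A)) n) (e n).hom :=
  Functor.ofOpSequence_map_homOfLE_succ _ n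

theorem isCohFormal_sysFunctor (M : ∀ n, (lev I (X ↘ Spec (CommRingCat.of A)) n).Modules)
    (e : ∀ n, (Scheme.Modules.pullback (levT I (X ↘ Spec (CommRingCat.of A)) n)).obj (M (n + 1)) ≅ M n)
    (hM : ∀ n, Coh.IsCoh (M n)) : Formal.IsCohFormal I (sysFunctor I M e) := by
  haveI := LocallyOfFiniteType.isLocallyNoetherian (X ↘ Spec (CommRingCat.of A))
  haveI : CompactSpace X := QuasiCompact.compactSpace_of_compactSpace (X ↘ Spec (CommRingCat.of A))
  haveI : IsNoetherian X := {}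
  have hP : ∀ n, Coh.IsCoh ((Scheme.Modules.pushforward (levι I (X ↘ Spec (CommRingCat.of A)) n)).obj (M n)) :=
    fun n => QCoh.isCoh_push (levι I (X ↘ Spec (CommRingCat.of A)) n) (hM n)
  unfold Formal.IsCohFormal
  refine ⟨fun n => hP n, fun n => killedBy_push I n (hM n).1 (hP n).1, fun n => ?_⟩
  rw [sysFunctor_map]
  exact isQuot_sysτ I n (hM (n + 1)).1 (hP (n + 1)).1 (e n).hom

theorem exists_sys_proj (M : ∀ n, (lev I (X ↘ Spec (CommRingCat.of A)) n).Modules)
    (e : ∀ n, (Scheme.Modules.pullback (levT I (X ↘ Spec (CommRingCat.of A)) n)).obj (M (n + 1)) ≅ M n)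
    (hM : ∀ n, Coh.IsCoh (M n)) :
    ∃ F : X.Modules, Coh.IsCoh F ∧
      ∃ q : ∀ n, F ⟶ (Scheme.Modules.pushforward (levι I (X ↘ Spec (CommRingCat.of A)) n)).obj (M n),
        (∀ n, Algz7.IsQuot (I ^ (n + 1)) (q n)) ∧
        ∀ n, q (n + 1) ≫
          sysτ (levT I (X ↘ Spec (CommRingCat.of A)) n) (levT_comp I (X ↘ Spec (CommRingCat.of A)) n) (e n).hom = q n := by
  obtain ⟨F, hF, hΦ⟩ := (S0004.result A I X).2 (sysFunctor I M e) (isCohFormal_sysFunctor I M e hM)
  obtain ⟨q, hqQ, hq⟩ := exists_proj I (sysFunctor I M e) hΦ.some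
  refine ⟨F, hF, q, hqQ, fun n => ?_⟩
  rw [← sysFunctor_map]
  exact hq n

theorem towerEss_lev : Lef73.TowerEss (levT_comp I (X ↘ Spec (CommRingCat.of A))) := by
  intro M e hM
  haveI := LocallyOfFiniteType.isLocallyNoetherian (X ↘ Spec (CommRingCat.of A))
  haveI : ∀ n, IsLocallyNoetherian (lev I (X ↘ Spec (CommRingCat.of A)) n) := fun n =>
    LocallyOfFiniteType.isLocallyNoetherian (levι I (X ↘ Spec (CommRingCat.of A)) n)
  obtain ⟨F, hF, q, hqQ, hq⟩ := exists_sys_proj I M e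
    fun n => QCoh.isCoh_iff_isFP.2 (QCoh.isFP_of_isFinLocFree (hM n))
  have hψ := fun n => isIso_transpose I n hF.1 (q n) (hqQ n)
  have hloc : FlatMod.IsFinLocFree F := isFinLocFree_of_levels I hF fun n =>
    (ConsPropLib.isFinLocFree_iso (@asIso _ _ _ _ _ (hψ n))).2 (hM n)
  have hc := fun n => transpose_sys (levT I (X ↘ Spec (CommRingCat.of A)) n)
    (levT_comp I (X ↘ Spec (CommRingCat.of A)) n) (e n).hom (q n) (q (n + 1)) (hq n)
  exact ⟨F, fun n => @asIso _ _ _ _ _ (hψ n), hloc, hc⟩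

/-- Over a complete Noetherian base, every finite étale cover of the special fibre of a proper scheme extends. -/
theorem essSurj_of_complete {A : Type u} [CommRing A] [IsNoetherianRing A] (I : Ideal A) [IsAdicComplete I A]
    {X : Scheme.{u}} (f : X ⟶ Spec (CommRingCat.of A)) [IsProper f]
    (R : FEt.Cat (pullback f (Spec.map (CommRingCat.ofHom (Ideal.Quotient.mk I))))) :
    ∃ W : FEt.Cat X, Nonempty
      ((FEt.restrict (pullback.fst f (Spec.map (CommRingCat.ofHom (Ideal.Quotient.mk I))))).obj W ≅ R) := by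
  letI : X.Over (Spec (CommRingCat.of A)) := ⟨f⟩
  haveI : IsProper (X ↘ Spec (CommRingCat.of A)) := ‹IsProper f›
  have hI : I ^ (0 + 1) = I := by rw [zero_add, pow_one]
  let q := (Ideal.quotEquivOfEq hI).toCommRingCatIso
  let g := Scheme.Spec.mapIso q.op
  have hg : g.hom ≫ baseι I 0 = Spec.map (CommRingCat.ofHom (Ideal.Quotient.mk I)) := by
    show Spec.map q.hom ≫ Spec.map _ = _
    rw [← Spec.map_comp]
    rfl
  let E : pullback f (Spec.map (CommRingCat.ofHom (Ideal.Quotient.mk I))) ≅ lev I f 0 :=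
    asIso (pullback.map f (Spec.map (CommRingCat.ofHom (Ideal.Quotient.mk I))) f (baseι I 0) (𝟙 X) g.hom (𝟙 _)
      (by simp) (by rw [Category.comp_id, hg]))
  exact Lef73.exists_restrict_iso (levT_comp I f) _ E
    (by simp [E, levι, lev]) (mapBij_lev I) (towerEss_lev I) R

end Groth.Agent.P1Complete
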